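import Mathlib
import Cfsg.Agent.S0205

/-! Of two finite groups of coprime orders one is solvable (odd order theorem). -/

set_option autoImplicit false

namespace H57

theorem solvable_or_of_coprime {A G : Type*} [Group A] [Group G] [Finite A] [Finite G]
    (h : (Nat.card A).Coprime (Nat.card G)) : Group.IsSolvable A ∨ Group.IsSolvable G := by
  rcases Nat.even_or_odd (Nat.card A) with h1 | h1
  · refine Or.inr (Cfsg.Agent.S0205.result ?_)
    by_contra h2
    rw [Nat.not_odd_iff_even] at h2
    have := Nat.eq_one_of_dvd_coprimes h (even_iff_two_dvd.1 h1) (even_iff_two_dvd.1 h2)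
    omega
  · exact Or.inl (Cfsg.Agent.S0205.result h1)

end H57
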